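import Groth.Agent.DRingTorAmp.Restrict
import Groth.Agent.DTenLib.BaseChange
import Groth.Agent.DRingKProj.Derived
import Groth.Agent.DRingKProj.PseudoCoh
import Groth.Agent.FlatComplex.Elementwise
import Mathlib.Algebra.Polynomial.Inductions
import Mathlib.Algebra.Homology.DerivedCategory.ShortExact

/-!
# Derived base change along `x ↦ 0`
-/

universe u

open CategoryTheory Limits Pretriangulated Polynomial
open scoped TensorProduct

namespace Groth.Agent.DRingEval

attribute [local instance] HasDerivedCategory.standard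

set_option linter.style.haveILetI false
set_option quotPrecheck false

variable (R : Type u) [CommRing R]

local notation "φ" => algebraMap R (Polynomial R)
local notation "ev" => Polynomial.evalRingHom (0 : R)
/-- Extension of scalars to `R[x]`. -/
noncomputable abbrev EXT := ModuleCat.extendScalars.{u, u, u} (algebraMap R (Polynomial R))

theorem smul_restrict (M : ModuleCat.{u} R) (p : Polynomial R) (m : (ModuleCat.restrictScalars.{u} ev).obj M) :
    p • m = ((Polynomial.eval 0 p) • (show M from m) : M) := rfl

/-- `r ⊗ m ↦ r(0) m`. -/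
noncomputable def ε (M : ModuleCat.{u} R) : (EXT R).obj M ⟶ (ModuleCat.restrictScalars.{u} ev).obj M :=
  ((ModuleCat.extendRestrictScalarsAdj.{u, u, u} φ).homEquiv M _).symm
    (ModuleCat.ofHom (Y := (ModuleCat.restrictScalars.{u} φ).obj ((ModuleCat.restrictScalars.{u} ev).obj M))
      { toFun := fun m => m
        map_add' := fun _ _ => rfl
        map_smul' := fun r m => by
          show r • (show M from m) = Polynomial.eval 0 (algebraMap R (Polynomial R) r) • (show M from m)
          simp })

theorem ε_tmul (M : ModuleCat.{u} R) (p : Polynomial R) (m : M) :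
    ε R M (p ⊗ₜ[R] m) = ((Polynomial.eval 0 p) • m : M) := rfl

theorem ε_naturality {M N : ModuleCat.{u} R} (f : M ⟶ N) :
    (EXT R).map f ≫ ε R N = ε R M ≫ (ModuleCat.restrictScalars.{u} ev).map f := by
  refine ModuleCat.hom_ext (LinearMap.ext fun t => ?_)
  letI : Module R (Polynomial R) := Module.compHom _ (algebraMap R (Polynomial R))
  letI : SMul R (Polynomial R) := (Module.compHom (Polynomial R) (algebraMap R (Polynomial R))).toSMul
  haveI : SMulCommClass R (Polynomial R) (Polynomial R) := ⟨fun r a b => by
    show algebraMap R (Polynomial R) r * (a * b) = a * (algebraMap R (Polynomial R) r * b)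
    ring⟩
  change Polynomial R ⊗[R] M at t
  induction t using TensorProduct.induction_on with
  | zero => exact (map_zero _).trans (map_zero _).symm
  | tmul p m => exact (map_smul f.hom (Polynomial.eval 0 p) m).symm
  | add a b ha hb => exact (map_add _ a b).trans ((congrArg₂ (· + ·) ha hb).trans (map_add _ a b).symm)

theorem shortExact (M : ModuleCat.{u} R) (w : ((X : Polynomial R) • 𝟙 ((EXT R).obj M)) ≫ ε R M = 0) :
    (ShortComplex.mk ((X : Polynomial R) • 𝟙 ((EXT R).obj M)) (ε R M) w).ShortExact := by
  letI : Module R (Polynomial R) := Module.compHom _ (algebraMap R (Polynomial R))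
  letI : SMul R (Polynomial R) := (Module.compHom (Polynomial R) (algebraMap R (Polynomial R))).toSMul
  haveI : SMulCommClass R (Polynomial R) (Polynomial R) := ⟨fun r a b => by
    show algebraMap R (Polynomial R) r * (a * b) = a * (algebraMap R (Polynomial R) r * b)
    ring⟩
  let dX : Polynomial R →ₗ[R] Polynomial R :=
    { toFun := Polynomial.divX
      map_add' := fun _ _ => Polynomial.divX_add
      map_smul' := fun r p => Polynomial.ext fun n => by
        show (Polynomial.divX (C r * p)).coeff n = (C r * Polynomial.divX p).coeff n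
        simp [Polynomial.coeff_divX] }
  let e0 : Polynomial R →ₗ[R] R :=
    { toFun := Polynomial.eval 0
      map_add' := fun _ _ => Polynomial.eval_add
      map_smul' := fun r p => by
        show Polynomial.eval 0 (C r * p) = r * Polynomial.eval 0 p
        simp }
  let g : (Polynomial R ⊗[R] M) →ₗ[R] (Polynomial R ⊗[R] M) := dX.rTensor M
  let e : (Polynomial R ⊗[R] M) →ₗ[R] M := TensorProduct.lift ((LinearMap.lsmul R M) ∘ₗ e0)
  have h1 : ∀ t : Polynomial R ⊗[R] M, g ((X : Polynomial R) • t) = t := fun t => by
    induction t using TensorProduct.induction_on with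
    | zero => simp
    | tmul p m =>
      rw [TensorProduct.smul_tmul', smul_eq_mul]
      show dX (X * p) ⊗ₜ[R] m = p ⊗ₜ[R] m
      congr 1
      exact Polynomial.ext fun n => by simp [dX, Polynomial.coeff_divX, Polynomial.coeff_X_mul]
    | add a b ha hb => simp only [smul_add, map_add, ha, hb]
  have h2 : ∀ t : Polynomial R ⊗[R] M, t = (1 : Polynomial R) ⊗ₜ[R] e t + (X : Polynomial R) • g t := fun t => by
    induction t using TensorProduct.induction_on with
    | zero => simp
    | tmul p m =>
      show p ⊗ₜ[R] m = (1 : Polynomial R) ⊗ₜ[R] ((Polynomial.eval 0 p) • m) + (X : Polynomial R) • (dX p ⊗ₜ[R] m)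
      have key : (1 : Polynomial R) ⊗ₜ[R] ((Polynomial.eval 0 p) • m) =
          (algebraMap R (Polynomial R) (Polynomial.eval 0 p) * 1) ⊗ₜ[R] m :=
        (Quot.sound (AddConGen.Rel.of _ _ (TensorProduct.Eqv.of_smul (Polynomial.eval 0 p) (1 : Polynomial R) m))).symm
      rw [key, TensorProduct.smul_tmul', ← TensorProduct.add_tmul]
      congr 1
      show p = algebraMap R (Polynomial R) (Polynomial.eval 0 p) * 1 + X * Polynomial.divX p
      rw [← Polynomial.coeff_zero_eq_eval_zero, mul_one, ← Polynomial.C_eq_algebraMap, add_comm]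
      exact (Polynomial.X_mul_divX_add p).symm
    | add a b ha hb =>
      conv_lhs => rw [ha, hb]
      rw [map_add, map_add, TensorProduct.tmul_add, smul_add]
      abel
  have he : ∀ t : Polynomial R ⊗[R] M, ε R M t = e t := fun t => by
    induction t using TensorProduct.induction_on with
    | zero => exact map_zero _
    | tmul p m => rfl
    | add a b ha hb => exact (map_add (ε R M).hom a b).trans ((congrArg₂ (· + ·) ha hb).trans (map_add e a b).symm)
  refine ShortComplex.ShortExact.mk' ((ShortComplex.ShortExact.moduleCat_exact_iff_function_exact _).2 fun t =>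
      ⟨fun ht => ⟨g t, ?_⟩, ?_⟩)
    ((ModuleCat.mono_iff_injective _).2 fun a b hab => ?_) ((ModuleCat.epi_iff_surjective _).2 fun m => ⟨(1 : Polynomial R) ⊗ₜ[R] (show M from m), ?_⟩)
  · have h0 : e t = 0 := (he t).symm.trans ht
    refine ((h2 t).trans ?_).symm
    rw [h0, TensorProduct.tmul_zero, zero_add]
    rfl
  · rintro ⟨s, rfl⟩
    exact ConcreteCategory.congr_hom w s
  · exact (h1 a).symm.trans ((congrArg g hab).trans (h1 b))
  · show ((Polynomial.eval 0 (1 : Polynomial R)) • (show M from m) : M) = m
    simp

/-- The main isomorphism. -/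
theorem nonempty_iso [DRing.HasLBaseChange ev] (K : Dual.D R)
    [HasBinaryBiproduct K ((shiftFunctor (Dual.D R) (1 : ℤ)).obj K)] :
    Nonempty ((DRing.LBaseChange ev).obj ((DRing.restrictD ev).obj K) ≅ K ⊞ (shiftFunctor (Dual.D R) (1 : ℤ)).obj K) := by
  obtain ⟨P, hP, -, ⟨eK⟩⟩ := DRingKProj.exists_isKProjective_iso K
  haveI := hP
  let P' : DRing.Cx (Polynomial R) := (DTen.extCx φ).obj P
  haveI : P'.IsKProjective := DTenLib.isKProjective_ext φ P
  let θ : P' ⟶ P' := (X : Polynomial R) • 𝟙 P'
  let π : P' ⟶ (DRing.restrictCx ev).obj P :=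
    { f := fun i => ε R (P.X i)
      comm' := fun i j _ => (ε_naturality R (P.d i j)).symm }
  have w : θ ≫ π = 0 := by
    refine HomologicalComplex.hom_ext _ _ fun i => ModuleCat.hom_ext (LinearMap.ext fun t => ?_)
    show ε R (P.X i) ((X : Polynomial R) • t) = 0
    refine (map_smul (ε R (P.X i)).hom (X : Polynomial R) t).trans ?_
    show ((Polynomial.eval 0 (X : Polynomial R)) • (show P.X i from ε R (P.X i) t) : P.X i) = 0
    simp
  let S : ShortComplex (DRing.Cx (Polynomial R)) := ShortComplex.mk θ π w
  have hS : S.ShortExact := HomologicalComplex.shortExact_of_degreewise_shortExact _ fun i =>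
    shortExact R (P.X i) (congrArg (fun k => HomologicalComplex.Hom.f k i) w)
  haveI := CochainComplex.mappingCone.quasiIso_descShortComplex hS
  let C := CochainComplex.mappingCone θ
  haveI : C.IsKProjective := DRingKProj.isKProjective_mappingCone θ
  let e1 : (DRing.restrictD ev).obj K ≅ DRing.toD C := (DRing.restrictD ev).mapIso eK.symm ≪≫
    DRingTorAmp.restrictQIso ev P ≪≫
    (asIso (DerivedCategory.Q.map (CochainComplex.mappingCone.descShortComplex S))).symm
  let G := ModuleCat.extendScalars.{u, u, u} ev
  let θ' := (G.mapHomologicalComplex (ComplexShape.up ℤ)).map θ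
  have hθ : θ' = 0 := HomologicalComplex.hom_ext _ _ fun i => by
    refine ModuleCat.hom_ext (LinearMap.ext fun t => ?_)
    letI := (Polynomial.evalRingHom (0 : R)).toAlgebra
    change R ⊗[Polynomial R] (P'.X i) at t
    induction t using TensorProduct.induction_on with
    | zero => exact map_zero _
    | tmul r y =>
      show r ⊗ₜ[Polynomial R] ((X : Polynomial R) • y) = 0
      rw [TensorProduct.tmul_smul, TensorProduct.smul_tmul']
      show (Polynomial.eval 0 (X : Polynomial R) * r) ⊗ₜ[Polynomial R] y = 0
      rw [Polynomial.eval_X, zero_mul, TensorProduct.zero_tmul]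
    | add a b ha hb => exact (map_add (θ'.f i).hom a b).trans ((congrArg₂ (· + ·) ha hb).trans (add_zero _))
  let T := DRing.toD ((G.mapHomologicalComplex (ComplexShape.up ℤ)).obj P')
  let eP : T ≅ K := DerivedCategory.Q.mapIso
    ((NatIso.mapHomologicalComplex ((ModuleCat.extendScalarsComp φ ev).symm ≪≫
      eqToIso (congrArg (fun r : R →+* R => ModuleCat.extendScalars.{u, u, u} r)
        (RingHom.ext fun r => by simp : (ev).comp φ = RingHom.id R)) ≪≫ ModuleCat.extendScalarsId.{u} R)
      (ComplexShape.up ℤ)).app P ≪≫ eqToIso (by rfl)) ≪≫ eK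
  let Δ := (DerivedCategory.Q.mapTriangle.obj (CochainComplex.mappingCone.triangle θ'))
  have hΔ : Δ ∈ distTriang _ := DerivedCategory.mappingCone_triangle_distinguished θ'
  have hz : Δ.rotate.mor₃ = 0 := by
    show -((shiftFunctor (Dual.D R) (1 : ℤ)).map (DerivedCategory.Q.map θ')) = 0
    rw [hθ, Functor.map_zero, Functor.map_zero, neg_zero]
  obtain ⟨e2, -, -⟩ := exists_iso_binaryBiproduct_of_distTriang _ (rot_of_distTriang _ hΔ) hz
  let a : Δ.rotate.obj₁ ≅ K := eP
  let b : Δ.rotate.obj₃ ≅ (shiftFunctor (Dual.D R) (1 : ℤ)).obj K := (shiftFunctor (Dual.D R) (1 : ℤ)).mapIso eP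
  exact ⟨(DRing.LBaseChange ev).mapIso e1 ≪≫ DRingKProj.lBaseChangeValueIso ev C ≪≫
    DerivedCategory.Q.mapIso (CochainComplex.mappingCone.mapHomologicalComplexIso θ G) ≪≫ e2 ≪≫ biprod.mapIso a b⟩

end Groth.Agent.DRingEval
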